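import Groth.Agent.Lib.FMBC15.Twist
import Groth.Agent.Lib.FMTrans15.Main

/-!
# The fibre of a Fourier–Mukai transform at a rational point
-/

set_option autoImplicit false
set_option linter.all false
set_option backward.isDefEq.respectTransparency false
set_option maxHeartbeats 2000000

universe u

open CategoryTheory CategoryTheory.Limits AlgebraicGeometry
open MonoidalCategory CartesianMonoidalCategory
open GrothLib.Cube
open scoped MonObj

attribute [local instance] HasDerivedCategory.standard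

noncomputable section

namespace GrothLib.FMBC15

section

variable {X Y Z : Scheme.{u}}

/-- Quasi-coherent complexes under an integral transform before pushing forward. -/
theorem isQCohD_pull_twist (p : X ⟶ Y) [DCoh.HasLpull p] {P : X.Modules} (hP : PicF.IsInvertible P)
    [DCoh.HasLTensorMod P] {E : DCoh.D Y} (hE : DCoh.IsQCohD E) :
    DCoh.IsQCohD ((DCoh.LTensorMod P).obj ((DCoh.Lpull p).obj E)) := by
  obtain ⟨_, _, _⟩ := FMTrans15.exact_tF' hP
  obtain ⟨e⟩ := FMTrans15.nonempty_ltensor_iso P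
  have h := isQCohD_twist hP (SuppTens22.isQCohD_lpull p hE)
  intro i
  exact OX.isQCoh_of_iso ((DerivedCategory.homologyFunctor X.Modules i).mapIso (e.app _)).symm (h i)

/-- Pulling back an integral transform kernel along a morphism into the total space. -/
theorem nonempty_lpull_kernel (j : Z ⟶ X) (p : X ⟶ Y) [DCoh.HasLpull j] [DCoh.HasLpull p] [DCoh.HasLpull (j ≫ p)]
    {P : X.Modules} (hP : PicF.IsInvertible P) {Q : Z.Modules} (e : (Scheme.Modules.pullback j).obj P ≅ Q)
    [DCoh.HasLTensorMod P] [DCoh.HasLTensorMod Q] :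
    Nonempty (DCoh.Lpull p ⋙ DCoh.LTensorMod P ⋙ DCoh.Lpull j ≅ DCoh.Lpull (j ≫ p) ⋙ DCoh.LTensorMod Q) := by
  have hjP : PicF.IsInvertible ((Scheme.Modules.pullback j).obj P) := ((hasCls_clsMod hP).pullback _).1
  obtain ⟨_, _, _⟩ := FMTrans15.exact_tF' hP
  obtain ⟨_, _, _⟩ := FMTrans15.exact_tF' hjP
  obtain ⟨_, _, _⟩ := (FMTrans15.exact_tF' hjP).of_iso (FMTrans15.tFCongr e)
  obtain ⟨a⟩ := FMTrans15.nonempty_ltensor_iso P
  obtain ⟨b⟩ := FMTrans15.nonempty_ltensor_iso Q
  obtain ⟨c⟩ := nonempty_lpull_twist j P hP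
  exact ⟨Functor.isoWhiskerLeft _ (Functor.isoWhiskerRight a _ ≪≫ c) ≪≫ (Functor.associator _ _ _).symm ≪≫
    Functor.isoWhiskerRight (OX.lpullCompIso j p) _ ≪≫
    Functor.isoWhiskerLeft _ (FMTrans15.mapDerivedNatIso (FMTrans15.tFCongr e) ≪≫ b.symm)⟩

/-- **Base change for an integral transform.** -/
theorem nonempty_bc_kernel {S' : Scheme.{u}} {g : S' ⟶ Z} {j : Y ⟶ X} {q : X ⟶ Z} {q' : Y ⟶ S'}
    (h : IsPullback j q' q g) {T : Scheme.{u}} (p : X ⟶ T) [DCoh.HasLpull g] [DCoh.HasLpull p] [DCoh.HasRpush q]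
    [DCoh.HasRpush q'] [DCoh.HasLpull (j ≫ p)] [Z.IsSeparated] [IsSeparated q] [QuasiCompact q] [CompactSpace X]
    (hflat : Flat g ∨ Flat q) {P : X.Modules} (hP : PicF.IsInvertible P) {Q : Y.Modules}
    (e : (Scheme.Modules.pullback j).obj P ≅ Q) [DCoh.HasLTensorMod P] [DCoh.HasLTensorMod Q] :
    Nonempty (ObjectProperty.ι (DCoh.IsQCohD (X := T)) ⋙
        (DCoh.Lpull p ⋙ DCoh.LTensorMod P ⋙ DCoh.Rpush q) ⋙ DCoh.Lpull g ≅
      ObjectProperty.ι (DCoh.IsQCohD (X := T)) ⋙ (DCoh.Lpull (j ≫ p) ⋙ DCoh.LTensorMod Q) ⋙ DCoh.Rpush q') := by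
  haveI : DCoh.HasLpull j := OX.hasLpull j
  haveI : DCoh.HasRpush j := KInj.hasRightDerivedFunctor _
  haveI : DCoh.HasRpush g := KInj.hasRightDerivedFunctor _
  obtain ⟨bc⟩ := nonempty_bc h hflat
  obtain ⟨k⟩ := nonempty_lpull_kernel j p hP e
  let F := ObjectProperty.ι (DCoh.IsQCohD (X := T)) ⋙ DCoh.Lpull p ⋙ DCoh.LTensorMod P
  let K := (DCoh.IsQCohD (X := X)).lift F fun E => isQCohD_pull_twist p hP E.property
  let w : K ⋙ ObjectProperty.ι (DCoh.IsQCohD (X := X)) ≅ F :=
    (DCoh.IsQCohD (X := X)).liftCompιIso F fun E => isQCohD_pull_twist p hP E.property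
  let a := Functor.isoWhiskerLeft K bc
  exact ⟨Functor.isoWhiskerLeft _ (Functor.associator _ _ _ ≪≫ Functor.isoWhiskerLeft _ (Functor.associator _ _ _)) ≪≫
    (Functor.associator _ _ _).symm ≪≫ (Functor.associator _ _ _).symm ≪≫
    Functor.isoWhiskerRight (Functor.isoWhiskerRight (Functor.associator _ _ _ ≪≫ w.symm) (DCoh.Rpush q)) _ ≪≫
    Functor.associator _ _ _ ≪≫ Functor.associator _ _ _ ≪≫
    a ≪≫ (Functor.associator _ _ _).symm ≪≫ Functor.isoWhiskerRight w _ ≪≫
    Functor.associator _ _ _ ≪≫ Functor.isoWhiskerLeft _ ((Functor.associator _ _ _).symm ≪≫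
      Functor.isoWhiskerRight (Functor.associator _ _ _ ≪≫ k) _)⟩

end

variable {k : Type u} [Field k] {A At : Over (Spec (CommRingCat.of k))}

/-- The slice at a point, as a base change of the projection. -/
theorem isPullback_slice (x : 𝟙_ (Over (Spec (CommRingCat.of k))) ⟶ At) :
    IsPullback (lift (𝟙 A) (toUnit A ≫ x)).left A.hom (snd A At).left x.left := by
  have hw : x.left ≫ At.hom = 𝟙 _ := Over.w x
  refine (IsPullback.of_right (h₁₂ := pullback.fst A.hom At.hom) (v₁₃ := A.hom) (h₂₂ := At.hom) ?_ ?_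
    (IsPullback.of_hasPullback A.hom At.hom).flip.flip)
  · have h1 : (lift (𝟙 A) (toUnit A ≫ x)).left ≫ (fst A At).left = 𝟙 A.left := by
      rw [← Over.comp_left, lift_fst, Over.id_left]
    rw [show (lift (𝟙 A) (toUnit A ≫ x)).left ≫ pullback.fst A.hom At.hom = 𝟙 A.left from h1, hw]
    haveI : IsIso (𝟙 (𝟙_ (Over (Spec (CommRingCat.of k)))).left) := by show IsIso (𝟙 (Spec (CommRingCat.of k))); infer_instance
    exact IsPullback.of_horiz_isIso ⟨by simp⟩
  · show (lift (𝟙 A) (toUnit A ≫ x)).left ≫ (snd A At).left = (toUnit A).left ≫ x.left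
    rw [← Over.comp_left, lift_snd, Over.comp_left]

theorem nonempty_fibre [IsProper A.hom] [Smooth A.hom] [IsProper At.hom] {P : (A ⊗ At).left.Modules}
    (hP : PicF.IsInvertible P) (x : 𝟙_ (Over (Spec (CommRingCat.of k))) ⟶ At)
    [DCoh.HasLpull (fst A At).left] [DCoh.HasLTensorMod P] [DCoh.HasRpush (snd A At).left]
    [DCoh.HasLTensorMod ((Scheme.Modules.pullback (lift (𝟙 A) (toUnit A ≫ x)).left).obj P)]
    [DCoh.HasRpush A.hom] [DCoh.HasLpull x.left] :
    Nonempty (ObjectProperty.ι (DCoh.IsQCohD (X := A.left)) ⋙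
        DCoh.LTensorMod ((Scheme.Modules.pullback (lift (𝟙 A) (toUnit A ≫ x)).left).obj P) ⋙ DCoh.Rpush A.hom ≅
      ObjectProperty.ι (DCoh.IsQCohD (X := A.left)) ⋙
        (DCoh.Lpull (fst A At).left ⋙ DCoh.LTensorMod P ⋙ DCoh.Rpush (snd A At).left) ⋙ DCoh.Lpull x.left) := by
  let j := (lift (𝟙 A) (toUnit A ≫ x)).left
  haveI : Flat (snd A At).left := by show Flat (pullback.snd A.hom At.hom); infer_instance
  haveI : IsSeparated (snd A At).left := by show IsSeparated (pullback.snd A.hom At.hom); infer_instance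
  haveI : QuasiCompact (snd A At).left := by show QuasiCompact (pullback.snd A.hom At.hom); infer_instance
  haveI : At.left.IsSeparated := ⟨by rw [← terminal.comp_from At.hom]; infer_instance⟩
  haveI : CompactSpace At.left := QuasiCompact.compactSpace_of_compactSpace At.hom
  haveI : CompactSpace (A ⊗ At).left := QuasiCompact.compactSpace_of_compactSpace (snd A At).left
  haveI : DCoh.HasLpull (j ≫ (fst A At).left) := OX.hasLpull _
  haveI : DCoh.HasLpull (𝟙 A.left) := OX.hasLpull _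
  obtain ⟨e⟩ := nonempty_bc_kernel (isPullback_slice x) (fst A At).left (Or.inr inferInstance) hP (Iso.refl _)
  obtain ⟨i⟩ := nonempty_lpull_id A.left
  have hj : j ≫ (fst A At).left = 𝟙 A.left := by
    rw [← Over.comp_left, lift_fst, Over.id_left]
  exact ⟨Functor.isoWhiskerLeft _ (Functor.isoWhiskerRight ((Functor.leftUnitor _).symm ≪≫
    Functor.isoWhiskerRight ((lpullCongr hj ≪≫ i).symm) _) _) ≪≫ e.symm⟩

end GrothLib.FMBC15
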