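import Groth.Agent.Lib.FMBC15.Transpose
import Groth.Agent.Lib.ParaPair.Basic

/-!
# The pullback of the Fourier–Mukai transform of `L` along `φ_L`
-/

set_option autoImplicit false
set_option linter.all false
set_option backward.isDefEq.respectTransparency false
set_option maxHeartbeats 2000000

universe u

open CategoryTheory CategoryTheory.Limits AlgebraicGeometry
open MonoidalCategory CartesianMonoidalCategory
open GrothLib.Cube
open scoped MonObj

attribute [local instance] HasDerivedCategory.standard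

noncomputable section

namespace GrothLib.FMBC15

variable {k : Type u} [Field k] {A At : Over (Spec (CommRingCat.of k))}

theorem isQCohD_inD {Y : Scheme.{u}} (M : Y.Modules) (h : Coh.IsQCoh M) : DCoh.IsQCohD (DCoh.inD Y M) :=
  fun i => by
    by_cases hi : i = 0
    · subst hi
      exact OX.isQCoh_of_iso ((DerivedCategory.singleFunctorCompHomologyFunctorIso Y.Modules 0).app M).symm h
    · refine OX.isQCoh_of_isZero ?_
      rcases lt_or_gt_of_ne hi with h' | h'
      · exact DerivedCategory.isZero_of_isGE ((DerivedCategory.singleFunctor Y.Modules 0).obj M) 0 i h'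
      · exact DerivedCategory.isZero_of_isLE ((DerivedCategory.singleFunctor Y.Modules 0).obj M) 0 i h'

theorem mul_eq [GrpObj A] : μ[A] = fst A A * snd A A := by
  rw [Hom.mul_def, lift_fst_snd, Category.id_comp]

/-- The shear map of a group. -/
def shear [GrpObj A] : A ⊗ A ≅ A ⊗ A where
  hom := lift μ[A] (snd A A)
  inv := lift (fst A A * (snd A A)⁻¹) (snd A A)
  hom_inv_id := by
    refine CartesianMonoidalCategory.hom_ext _ _ ?_ ?_
    · rw [Category.assoc, lift_fst, MonObj.comp_mul, GrpObj.comp_inv, lift_fst, lift_snd, mul_eq,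
        mul_inv_cancel_right, Category.id_comp]
    · rw [Category.assoc, lift_snd, lift_snd, Category.id_comp]
  inv_hom_id := by
    refine CartesianMonoidalCategory.hom_ext _ _ ?_ ?_
    · rw [Category.assoc, lift_fst, mul_eq, MonObj.comp_mul, lift_fst, lift_snd, inv_mul_cancel_right,
        Category.id_comp]
    · rw [Category.assoc, lift_snd, lift_snd, Category.id_comp]

/-- The sheared product square. -/
theorem isPullback_shear [GrpObj A] : IsPullback μ[A].left (snd A A).left A.hom A.hom := by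
  refine IsPullback.of_iso_pullback ⟨(Over.w μ[A]).trans (Over.w (snd A A)).symm⟩
    ((Over.forget _).mapIso (shear (A := A))) ?_ ?_
  · show (lift μ[A] (snd A A)).left ≫ (fst A A).left = μ[A].left
    rw [← Over.comp_left, lift_fst]
  · show (lift μ[A] (snd A A)).left ≫ (snd A A).left = (snd A A).left
    rw [← Over.comp_left, lift_snd]

section

variable [GrpObj A] [IsProper A.hom] [Smooth A.hom] [GeometricallyConnected A.hom]
  [GrpObj At] [IsProper At.hom] [Smooth At.hom] [GeometricallyConnected At.hom]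
  {φ : ∀ T : Over (Spec (CommRingCat.of k)), PicF.Cl (PicF.XT A.hom T) → (T ⟶ At)}
  {P : (A ⊗ At).left.Modules} {L L' : A.left.Modules} {Λ : (A ⊗ A).left.Modules}

/-- A right tensor inverse of an invertible module has the inverse class. -/
theorem hasCls_of_inverse (hL : PicF.IsInvertible L)
    (hL' : Nonempty (CohB1.tensorMod L L' ≅ Coh.structureModule A.left)) : HasCls L' (clsMod hL)⁻¹ := by
  obtain ⟨e⟩ := hL'
  obtain ⟨M, hM, -, ⟨m⟩⟩ := exists_inverse hL
  let i : L' ≅ M := (OX.tensorUnitLeftIso L').symm ≪≫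
    ((DCoh.tensorBi (X := A.left)).mapIso m.symm).app L' ≪≫ OX.tensorAssoc M L L' ≪≫
    ((DCoh.tensorBi (X := A.left)).obj M).mapIso e ≪≫ Euler.tFUnitIso M
  have hi : PicF.IsInvertible L' := ParaPair.isInvertible_of_iso i hM
  refine ⟨hi, eq_inv_of_mul_eq_one_right ?_⟩
  exact ((hasCls_clsMod hL).tensor (hasCls_clsMod hi)).eq (hasCls_structureModule _) ⟨e⟩

/-- The Mumford bundle is the pullback of the Poincaré bundle along `1 × φ_L`. -/
theorem nonempty_mumford_iso (hφ : AbDual.IsDualAV Scheme.fppfPrecoverage A At φ) (hP : PicF.IsInvertible P)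
    (hPξ : AbDual.IsPoincareCl A At φ (PicF.cl P)) (hL : PicF.IsInvertible L)
    (hL' : Nonempty (CohB1.tensorMod L L' ≅ Coh.structureModule A.left))
    (hΛ : Nonempty (Λ ≅ CohB1.tensorMod (CohB1.tensorMod ((Scheme.Modules.pullback μ[A].left).obj L)
      ((Scheme.Modules.pullback (fst A A).left).obj L')) ((Scheme.Modules.pullback (snd A A).left).obj L')))
    (hΛ0 : AbDual.IsPicZeroCl A.hom A (PicF.cl (Y := PicF.XT A.hom A) Λ)) :
    Nonempty (((DCoh.tensorBi (X := (A ⊗ A).left)).obj ((Scheme.Modules.pullback (fst A A).left).obj L)).obj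
        ((Scheme.Modules.pullback (A ◁ φ A (PicF.cl (Y := PicF.XT A.hom A) Λ)).left).obj P) ≅
      ((DCoh.tensorBi (X := (A ⊗ A).left)).obj ((Scheme.Modules.pullback μ[A].left).obj L)).obj
        ((Scheme.Modules.pullback (snd A A).left).obj L')) := by
  haveI := Dual.geometricallyIntegral_of_abScheme A
  obtain ⟨eΛ⟩ := hΛ
  have hc := hasCls_clsMod (X := (A ⊗ At).left) hP
  have hx := PolSym15.isUniv_of_isPoincareCl hc hPξ
  let l := clsMod hL
  have hcL := hasCls_clsMod hL
  have hcL' := hasCls_of_inverse hL hL'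
  let y : Pic (A ⊗ A).left := pull μ[A].left l * pull (fst A A).left l⁻¹ * pull (snd A A).left l⁻¹
  have hy : HasCls Λ y := by
    have h := ((hcL.pullback μ[A].left).tensor (hcL'.pullback (fst A A).left)).tensor (hcL'.pullback (snd A A).left)
    have hi : PicF.IsInvertible Λ := ParaPair.isInvertible_of_iso eΛ h.1
    exact ⟨hi, (hasCls_clsMod hi).eq h ⟨eΛ⟩⟩
  have hpz : Dual.PZ A A y := (Dual.pz_iff (T := A) hy).1 hΛ0
  let u : A ⟶ At := φ A (PicF.cl (Y := PicF.XT A.hom A) Λ)
  have hu : Dual.dphi φ A y = u := (Dual.dphi_eq (T := A) hy).symm ▸ rfl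
  have hrig : pull (lift (1 : A ⟶ A) (𝟙 A)).left y = 1 := by
    simp only [y, map_mul, map_inv]
    rw [CubeRel26.pull_pull_over, CubeRel26.pull_pull_over, CubeRel26.pull_pull_over, mul_eq, MonObj.comp_mul,
      lift_fst, lift_snd, _root_.one_mul, pull_one_hom, pull_over_id, inv_one, _root_.mul_one, mul_inv_cancel]
  have h1 : pull (A ◁ u).left (clsMod hP) = y := by
    refine Dual.eq_of_dphi hφ (hx.pz.pullT u) hpz ?_ ?_
    · rw [PolSym15.rig_pull hx, hrig]
    · rw [PolSym15.dphi_pull_whisker hx hφ, hu]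
  refine ((hcL.pullback _).tensor (hc.pullback _)).iso ((hcL.pullback _).tensor (hcL'.pullback _)) ?_
  rw [h1]
  simp only [y, map_inv]
  rw [← mul_assoc, mul_left_comm (pull (fst A A).left l) (pull μ[A].left l), mul_inv_cancel, _root_.mul_one]

theorem nonempty_pull_phi (hφ : AbDual.IsDualAV Scheme.fppfPrecoverage A At φ) (hP : PicF.IsInvertible P)
    (hPξ : AbDual.IsPoincareCl A At φ (PicF.cl P)) (hL : PicF.IsInvertible L)
    (hL' : Nonempty (CohB1.tensorMod L L' ≅ Coh.structureModule A.left))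
    (hΛ : Nonempty (Λ ≅ CohB1.tensorMod (CohB1.tensorMod ((Scheme.Modules.pullback μ[A].left).obj L)
      ((Scheme.Modules.pullback (fst A A).left).obj L')) ((Scheme.Modules.pullback (snd A A).left).obj L')))
    (hΛ0 : AbDual.IsPicZeroCl A.hom A (PicF.cl (Y := PicF.XT A.hom A) Λ))
    [DCoh.HasLpull (fst A At).left] [DCoh.HasLTensorMod P] [DCoh.HasRpush (snd A At).left]
    [DCoh.HasLpull (φ A (PicF.cl (Y := PicF.XT A.hom A) Λ)).left] [DCoh.HasRpush A.hom] [DCoh.HasLpull A.hom]
    [DCoh.HasLTensorMod L'] :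
    Nonempty ((DCoh.Lpull (φ A (PicF.cl (Y := PicF.XT A.hom A) Λ)).left).obj
        ((DCoh.Lpull (fst A At).left ⋙ DCoh.LTensorMod P ⋙ DCoh.Rpush (snd A At).left).obj (DCoh.inD A.left L)) ≅
      (DCoh.LTensorMod L').obj ((DCoh.Lpull A.hom).obj ((DCoh.Rpush A.hom).obj (DCoh.inD A.left L)))) := by
  obtain ⟨m⟩ := nonempty_mumford_iso hφ hP hPξ hL hL' hΛ hΛ0
  let u : A ⟶ At := φ A (PicF.cl (Y := PicF.XT A.hom A) Λ)
  let p := (fst A A).left
  let q := (snd A A).left
  let μ' := μ[A].left
  let qA := (snd A At).left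
  let Q := (Scheme.Modules.pullback (A ◁ u).left).obj P
  have hQ : PicF.IsInvertible Q := ((hasCls_clsMod (X := (A ⊗ At).left) hP).pullback _).1
  have hiL' : PicF.IsInvertible L' := (hasCls_of_inverse hL hL').1
  have hqL' : PicF.IsInvertible ((Scheme.Modules.pullback q).obj L') := ((hasCls_clsMod hiL').pullback _).1
  haveI : Flat qA := by show Flat (pullback.snd A.hom At.hom); infer_instance
  haveI : IsSeparated qA := by show IsSeparated (pullback.snd A.hom At.hom); infer_instance
  haveI : QuasiCompact qA := by show QuasiCompact (pullback.snd A.hom At.hom); infer_instance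
  haveI : At.left.IsSeparated := ⟨by rw [← terminal.comp_from At.hom]; infer_instance⟩
  haveI : CompactSpace At.left := QuasiCompact.compactSpace_of_compactSpace At.hom
  haveI : CompactSpace A.left := QuasiCompact.compactSpace_of_compactSpace A.hom
  haveI : CompactSpace (A ⊗ At).left := QuasiCompact.compactSpace_of_compactSpace qA
  haveI : Flat p := by show Flat (pullback.fst A.hom A.hom); infer_instance
  haveI : Flat μ' := MorphismProperty.of_isPullback (P := @Flat) (isPullback_shear (A := A)).flip (inferInstance : Flat A.hom)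
  haveI : (Spec (CommRingCat.of k)).IsSeparated := inferInstance
  haveI : DCoh.HasRpush q := KInj.hasRightDerivedFunctor _
  haveI : DCoh.HasRpush μ' := KInj.hasRightDerivedFunctor _
  haveI : DCoh.HasLpull ((A ◁ u).left ≫ (fst A At).left) := OX.hasLpull _
  haveI : DCoh.HasLpull p := OX.hasLpull p
  haveI : DCoh.HasLpull μ' := OX.hasLpull μ'
  haveI : DCoh.HasLTensorMod Q := OX.hasLTensorMod Q
  haveI : DCoh.HasRpush A.hom := ‹DCoh.HasRpush A.hom›
  have hO : DCoh.IsQCohD (DCoh.inD A.left L) :=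
    isQCohD_inD L (InvExt.isQuasicoherent_of_isInvertible hL)
  obtain ⟨b⟩ := nonempty_bc_kernel (isPullback_whiskerLeft A u) (fst A At).left (Or.inr ‹Flat qA›) hP (Iso.refl Q)
  obtain ⟨b'⟩ := nonempty_bc (isPullback_shear (A := A)) (Or.inr inferInstance)
  obtain ⟨_, _, _⟩ := FMTrans15.exact_pullback p
  obtain ⟨_, _, _⟩ := FMTrans15.exact_pullback μ'
  obtain ⟨_, _, _⟩ := FMTrans15.exact_tF' hQ
  obtain ⟨_, _, _⟩ := FMTrans15.exact_tF' hqL'
  obtain ⟨_, _, _⟩ := FMTrans15.exact_tF' hiL'
  obtain ⟨lp⟩ := DualRing.nonempty_lpull_flat p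
  obtain ⟨lm⟩ := DualRing.nonempty_lpull_flat μ'
  obtain ⟨t1⟩ := FMTrans15.nonempty_ltensor_iso Q
  obtain ⟨t2⟩ := FMTrans15.nonempty_ltensor_iso L'
  obtain ⟨pf⟩ := nonempty_rpush_twist q L' hiL'
  have hjp : (A ◁ u).left ≫ (fst A At).left = p := by
    show (A ◁ u).left ≫ (fst A At).left = (fst A A).left
    rw [← Over.comp_left, whiskerLeft_fst]
  let s := DerivedCategory.singleFunctor (A ⊗ A).left.Modules 0
  let e1 : (DCoh.LTensorMod Q).obj ((DCoh.Lpull ((A ◁ u).left ≫ (fst A At).left)).obj (DCoh.inD A.left L)) ≅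
      (Euler.tF ((Scheme.Modules.pullback q).obj L')).mapDerivedCategory.obj
        ((DCoh.Lpull μ').obj (DCoh.inD A.left L)) :=
    (DCoh.LTensorMod Q).mapIso ((lpullCongr hjp ≪≫ lp).app _ ≪≫
      ((Scheme.Modules.pullback p).mapDerivedCategorySingleFunctor 0).app L) ≪≫ t1.app _ ≪≫
    ((Euler.tF Q).mapDerivedCategorySingleFunctor 0).app _ ≪≫ s.mapIso m ≪≫
    (((Euler.tF ((Scheme.Modules.pullback q).obj L')).mapDerivedCategorySingleFunctor 0).app _).symm ≪≫
    (Euler.tF ((Scheme.Modules.pullback q).obj L')).mapDerivedCategory.mapIso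
      ((lm.app _ ≪≫ ((Scheme.Modules.pullback μ').mapDerivedCategorySingleFunctor 0).app L).symm)
  exact ⟨b.app ⟨_, hO⟩ ≪≫ (DCoh.Rpush q).mapIso e1 ≪≫ pf.app _ ≪≫
    (Euler.tF L').mapDerivedCategory.mapIso (b'.app ⟨_, hO⟩).symm ≪≫ t2.symm.app _⟩

end

end GrothLib.FMBC15
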