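import Groth.Agent.Lib.FMBC15.Theta
import Groth.Agent.Lib.TorBC25.Localizing
import Groth.Agent.Lib.OX.ProjQCoh
import Groth.Agent.Lib.OX.HomVanish
import Groth.Agent.Lib.SuppTens22.Basic

/-!
# Derived base change on complexes with quasi-coherent cohomology
-/

set_option autoImplicit false
set_option linter.all false
set_option backward.isDefEq.respectTransparency false
set_option maxHeartbeats 1000000

universe u

open CategoryTheory CategoryTheory.Limits AlgebraicGeometry

attribute [local instance] HasDerivedCategory.standard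

namespace GrothLib.FMBC15

open GrothLib.OX GrothLib.TorBC25

variable {X S X' S' : Scheme.{u}} {g : S' ⟶ S} {g' : X' ⟶ X} [DCoh.HasLpull g] [DCoh.HasLpull g']
  {p : X ⟶ S} {p' : X' ⟶ S'} (h : IsPullback g' p' p g) (adjg : DCoh.Lpull g ⊣ RR g)
  (adjg' : DCoh.Lpull g' ⊣ RR g')

/-- **Derived base change on quasi-coherent complexes**, when one of the morphisms to the base is flat. -/
theorem good_of_isQCohD [S.IsSeparated] [IsSeparated p] [QuasiCompact p] [CompactSpace X]
    (hflat : Flat g ∨ Flat p) {E : DCoh.D X} (hE : DCoh.IsQCohD E) : Good h adjg adjg' E := by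
  haveI : X.IsSeparated := ⟨by rw [← terminal.comp_from p]; infer_instance⟩
  haveI : QuasiSeparatedSpace X := (quasiSeparatedSpace_iff_quasiSeparated _).2 inferInstance
  haveI : QuasiCompact p' := MorphismProperty.of_isPullback h ‹QuasiCompact p›
  haveI : QuasiSeparated p' := MorphismProperty.of_isPullback h (inferInstance : QuasiSeparated p)
  refine OX.prop_of_localizing (thick_good h adjg adjg') (fun K hK => good_of_isPerfect h adjg adjg' hflat hK)
    (fun J Z _ hq hZ n => ?_) hE
  let Z' := fun j => (Z j)⟦n⟧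
  haveI : PreservesColimitsOfSize.{u, u} (DCoh.Lpull g) := adjg.leftAdjoint_preservesColimits
  haveI : PreservesColimitsOfSize.{u, u} (DCoh.Lpull g') := adjg'.leftAdjoint_preservesColimits
  have hq' : ∀ j, DCoh.IsQCohD (Z' j) := fun j => isQCohD_shift (hq j) n
  have hp : IsIso (sigmaComparison (RR p) Z') := isIso_Rres_coprod p Z' hq'
  haveI : PreservesColimit (Discrete.functor Z') (RR p) :=
    haveI := hp
    PreservesCoproduct.of_iso_comparison (RR p) Z'
  haveI : PreservesColimit (Discrete.functor Z') (RR p ⋙ DCoh.Lpull g) := inferInstance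
  have hG : IsIso (Sigma.desc fun j => (DCoh.Lpull g' ⋙ RR p').map (Sigma.ι Z' j)) :=
    isIso_sigmaDesc_comp (DCoh.Lpull g') (RR p') Z'
      (isIso_Rres_coprod p' _ fun j => SuppTens22.isQCohD_lpull g' (hq' j))
  have h1 : IsIso ((thetaNat h adjg adjg').app (∐ Z')) :=
    isIso_app_sigma (thetaNat h adjg adjg') Z' hG fun j => hZ j n
  exact (NatTrans.isIso_app_iff_of_iso (thetaNat h adjg adjg')
    (PreservesCoproduct.iso (shiftFunctor (DCoh.D X) n) Z)).2 h1

/-- Derived base change as an isomorphism of functors on quasi-coherent complexes. -/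
theorem nonempty_bc (h : IsPullback g' p' p g) [DCoh.HasRpush p] [DCoh.HasRpush p'] [DCoh.HasRpush g]
    [DCoh.HasRpush g'] [S.IsSeparated] [IsSeparated p] [QuasiCompact p] [CompactSpace X]
    (hflat : Flat g ∨ Flat p) :
    Nonempty (ObjectProperty.ι (DCoh.IsQCohD (X := X)) ⋙ DCoh.Rpush p ⋙ DCoh.Lpull g ≅
      ObjectProperty.ι (DCoh.IsQCohD (X := X)) ⋙ DCoh.Lpull g' ⋙ DCoh.Rpush p') := by
  obtain ⟨a⟩ := nonempty_lpullAdj g
  obtain ⟨a'⟩ := nonempty_lpullAdj g'
  let adjg := a.ofNatIsoRight (rpushIsoRres g)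
  let adjg' := a'.ofNatIsoRight (rpushIsoRres g')
  let τ := Functor.whiskerLeft (ObjectProperty.ι (DCoh.IsQCohD (X := X))) (thetaNat h adjg adjg')
  haveI : ∀ K, IsIso (τ.app K) := fun K =>
    (NatTrans.isIso_app_iff_of_iso (thetaNat h adjg adjg') ((shiftFunctorZero (DCoh.D X) ℤ).app K.obj)).1
      (good_of_isQCohD h adjg adjg' hflat K.property 0)
  haveI : IsIso τ := NatIso.isIso_of_isIso_app τ
  exact ⟨Functor.isoWhiskerLeft _ (Functor.isoWhiskerRight (rpushIsoRres p) _) ≪≫ asIso τ ≪≫
    Functor.isoWhiskerLeft _ (Functor.isoWhiskerLeft _ (rpushIsoRres p').symm)⟩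

end GrothLib.FMBC15
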