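import Groth.Agent.Lib.TorBC25.Affine
import Groth.Agent.Lib.DerCat.Truncation
import Groth.Agent.Lib.Cohom.PushDerived

/-!
# Maps from a module into the derived direct image of a module

For any morphism `g`, composing with the comparison `g_* P → Rg_* P` is a bijection on maps from a module.
-/

set_option autoImplicit false
set_option linter.all false
set_option backward.isDefEq.respectTransparency false
set_option maxHeartbeats 1000000

universe w v u

open CategoryTheory CategoryTheory.Limits AlgebraicGeometry HomologicalComplex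
open Scheme.Modules (pushforward)

attribute [local instance] HasDerivedCategory.standard

namespace GrothLib.FMBC15

section

variable {C : Type u} [Category.{v} C] [Abelian C] [HasDerivedCategory.{w} C]

/-- A map inducing isomorphisms in cohomology up to degree `n` is bijective on maps from objects in degrees `≤ n`. -/
theorem bijective_comp_of_homology {M E E' : DerivedCategory C} (f : E ⟶ E') (n : ℤ) [M.IsLE n]
    (h : ∀ q, q ≤ n → IsIso ((DerivedCategory.homologyFunctor C q).map f)) :
    Function.Bijective (fun φ : M ⟶ E => φ ≫ f) := by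
  let t : Triangulated.TStructure (DerivedCategory C) := DerivedCategory.TStructure.t
  let H := DerivedCategory.homologyFunctor C
  haveI : t.IsLE M n := inferInstanceAs (M.IsLE n)
  haveI : t.IsLE M ((n + 1) - 1) := by rw [add_sub_cancel_right]; infer_instance
  haveI : IsIso ((t.truncLT (n + 1)).map f) := by
    rw [DerivedCategory.isIso_iff]
    intro q
    rcases le_or_gt (n + 1) q with hq | hq
    · exact ⟨0, (DerTrunc.isZero_homology_truncLT E (n + 1) q hq).eq_of_src _ _,
        (DerTrunc.isZero_homology_truncLT E' (n + 1) q hq).eq_of_src _ _⟩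
    · haveI := DerTrunc.isIso_homology_truncLTι E (n + 1) q hq
      haveI := DerTrunc.isIso_homology_truncLTι E' (n + 1) q hq
      haveI := h q (by omega)
      have e : (H q).map ((t.truncLT (n + 1)).map f) ≫ (H q).map ((t.truncLTι (n + 1)).app E') =
          (H q).map ((t.truncLTι (n + 1)).app E) ≫ (H q).map f := by
        rw [← (H q).map_comp, ← (H q).map_comp]
        exact congrArg (H q).map ((t.truncLTι (n + 1)).naturality f)
      haveI : IsIso ((H q).map ((t.truncLT (n + 1)).map f) ≫ (H q).map ((t.truncLTι (n + 1)).app E')) := by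
        rw [e]; infer_instance
      exact IsIso.of_isIso_comp_right _ ((H q).map ((t.truncLTι (n + 1)).app E'))
  have hnat : (t.truncLT (n + 1)).map f ≫ (t.truncLTι (n + 1)).app E' = (t.truncLTι (n + 1)).app E ≫ f :=
    (t.truncLTι (n + 1)).naturality f
  refine ⟨fun φ ψ hφψ => ?_, fun χ => ?_⟩
  · rw [← t.liftTruncLT_ι φ n (n + 1) rfl, ← t.liftTruncLT_ι ψ n (n + 1) rfl]
    refine congrArg (· ≫ _) ?_
    rw [← cancel_mono ((t.truncLT (n + 1)).map f)]
    apply t.to_truncLT_obj_ext
    rw [Category.assoc, Category.assoc, hnat, ← Category.assoc, ← Category.assoc, t.liftTruncLT_ι,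
      t.liftTruncLT_ι]
    exact hφψ
  · refine ⟨(t.liftTruncLT χ n (n + 1) rfl ≫ inv ((t.truncLT (n + 1)).map f)) ≫ (t.truncLTι (n + 1)).app E, ?_⟩
    show ((_ ≫ _) ≫ _) ≫ f = χ
    rw [Category.assoc, ← hnat, Category.assoc, IsIso.inv_hom_id_assoc, t.liftTruncLT_ι]

end

open GrothLib.OX GrothLib.TorBC25

variable {X Y : Scheme.{u}} (n : ℤ)

/-- `g_*` preserves cohomology in the bottom degree. -/
theorem quasiIsoAt_pushforward (g : X ⟶ Y) {K L : CochainComplex X.Modules ℤ} (i : K ⟶ L) [QuasiIso i]
    [K.IsStrictlyGE n] [L.IsStrictlyGE n] (q : ℤ) (hq : q ≤ n) :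
    QuasiIsoAt (((pushforward g).mapHomologicalComplex (ComplexShape.up ℤ)).map i) q := by
  haveI : PreservesLimitsOfSize.{0, 0} (pushforward g) :=
    (Scheme.Modules.pullbackPushforwardAdjunction g).rightAdjoint_preservesLimits
  have hK : (K.sc q).f = 0 :=
    (K.isZero_of_isStrictlyGE n _ (by simp only [CochainComplex.prev]; omega)).eq_of_src _ _
  have hL : (L.sc q).f = 0 :=
    (L.isZero_of_isStrictlyGE n _ (by simp only [CochainComplex.prev]; omega)).eq_of_src _ _
  haveI := (pushforward g).preservesLeftHomology_of_zero_f (K.sc q) hK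
  haveI := (pushforward g).preservesLeftHomology_of_zero_f (L.sc q) hL
  haveI : ShortComplex.QuasiIso ((shortComplexFunctor X.Modules (ComplexShape.up ℤ) q).map i) :=
    (quasiIsoAt_iff i q).1 inferInstance
  rw [quasiIsoAt_iff]
  exact ShortComplex.quasiIso_map_of_preservesLeftHomology (pushforward g)
    ((shortComplexFunctor X.Modules (ComplexShape.up ℤ) q).map i)

/-- Maps from a module to `Rg_*` of a module come from `g_*`. -/
theorem bijective_comp_tau (g : X ⟶ Y) (N : Y.Modules) (P : X.Modules) :
    Function.Bijective (fun φ : (sD n Y).obj N ⟶ (sD n Y).obj ((pushforward g).obj P) => φ ≫ tau n g P) := by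
  let K := (single X.Modules (ComplexShape.up ℤ) n).obj P
  obtain ⟨L, i, hi, hinj, hL⟩ := CochainComplex.Plus.modelCategoryQuillen.exists_quasiIso_injective K n
  haveI := hi
  haveI := hL
  haveI : ∀ m, Injective (L.X m) := hinj
  haveI := CochainComplex.isKInjective_of_injective L n
  haveI h1 : IsIso (uU g L) :=
    map_isIso_of (DCoh.pushKh g)
      (KInj.isIso_unit_of_rightOrthogonal (CochainComplex.IsKInjective.rightOrthogonal L))
  haveI : IsIso ((qD X).map i) :=
    (DerivedCategory.isIso_Qh_map_iff _).2 ((HomotopyCategory.quotient_map_mem_quasiIso_iff i).2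
      ((HomologicalComplex.mem_quasiIso_iff _).2 hi))
  haveI : IsIso ((RR g).map ((qD X).map i)) := inferInstance
  haveI : ((sD n Y).obj N).IsLE n := by
    haveI : ((DerivedCategory.singleFunctor Y.Modules n).obj N).IsLE n := inferInstance
    exact DerivedCategory.TStructure.t.isLE_of_iso ((sDIso n Y).app N) n
  let j := ((pushforward g).mapHomologicalComplex (ComplexShape.up ℤ)).map i
  have hb := bijective_comp_of_homology (M := (sD n Y).obj N) ((qD Y).map j) n fun q hq => by
    haveI := quasiIsoAt_pushforward n g i q hq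
    haveI : IsIso (HomologicalComplex.homologyMap j q) :=
      (quasiIsoAt_iff_isIso_homologyMap j q).1 inferInstance
    refine (NatIso.isIso_map_iff (Functor.isoWhiskerRight (DerivedCategory.quotientCompQhIso Y.Modules)
      (DerivedCategory.homologyFunctor Y.Modules q) ≪≫ DerivedCategory.homologyFunctorFactors Y.Modules q) j).2 ?_
    exact ‹IsIso (HomologicalComplex.homologyMap j q)›
  have hn := uU_naturality g i
  let a : (sD n Y).obj ((pushforward g).obj P) ≅ (qD Y).obj ((pushCxF g).obj K) :=
    (qD Y).mapIso (pushSingleIso n g P).symm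
  let b : (qD Y).obj ((pushCxF g).obj L) ≅ (RR g).obj ((qD X).obj K) :=
    asIso (uU g L) ≪≫ (asIso ((RR g).map ((qD X).map i))).symm
  have key : (fun φ : (sD n Y).obj N ⟶ (sD n Y).obj ((pushforward g).obj P) => φ ≫ tau n g P) =
      (fun φ => φ ≫ b.hom) ∘ (fun φ => φ ≫ (qD Y).map j) ∘ fun φ => φ ≫ a.hom := by
    funext φ
    show φ ≫ (qD Y).map (pushSingleIso n g P).inv ≫ uU g K = ((φ ≫ a.hom) ≫ (qD Y).map j) ≫ b.hom
    have e : (qD Y).map j ≫ b.hom = uU g K := by
      show (qD Y).map j ≫ uU g L ≫ inv ((RR g).map ((qD X).map i)) = _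
      erw [reassoc_of% hn, IsIso.hom_inv_id, Category.comp_id]
    rw [Category.assoc, Category.assoc, e]
    rfl
  rw [key]
  exact (Iso.homToEquiv b).bijective.comp (hb.comp (Iso.homToEquiv a).bijective)

end GrothLib.FMBC15
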