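import Groth.Agent.Lib.FMBC15.TauBij
import Groth.Agent.Lib.DualRing.SchemePull

/-!
# Derived base change for a flat morphism in a square

The base change map is invertible on perfect objects when either of the two morphisms to the base is flat.
-/

set_option autoImplicit false
set_option linter.all false
set_option backward.isDefEq.respectTransparency false
set_option maxHeartbeats 1000000

universe u

open CategoryTheory CategoryTheory.Limits AlgebraicGeometry HomologicalComplex
open Scheme.Modules (pushforward pushforwardComp pushforwardCongr pullbackPushforwardAdjunction)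

attribute [local instance] HasDerivedCategory.standard

namespace GrothLib.FMBC15

open GrothLib.OX GrothLib.TorBC25

variable {X Y : Scheme.{u}} (n : ℤ)

section Adjoint

variable (g : X ⟶ Y) [DCoh.HasLpull g] (adj : DCoh.Lpull g ⊣ RR g)

/-- The adjoint on modules. -/
noncomputable def adjMap {N : Y.Modules} {P : X.Modules} (x : (Scheme.Modules.pullback g).obj N ⟶ P) :
    N ⟶ (pushforward g).obj P :=
  (sDFF n Y).preimage ((bijective_comp_tau n g N P).2 (adj.homEquiv _ _ (lam n g N ≫ (sD n X).map x))).choose

theorem map_adjMap {N : Y.Modules} {P : X.Modules} (x : (Scheme.Modules.pullback g).obj N ⟶ P) :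
    (sD n Y).map (adjMap n g adj x) ≫ tau n g P = adj.homEquiv _ _ (lam n g N ≫ (sD n X).map x) := by
  rw [adjMap, Functor.FullyFaithful.map_preimage]
  exact ((bijective_comp_tau n g N P).2 _).choose_spec

theorem eq_adjMap {N : Y.Modules} {P : X.Modules} (x : (Scheme.Modules.pullback g).obj N ⟶ P)
    (y : N ⟶ (pushforward g).obj P)
    (hy : (sD n Y).map y ≫ tau n g P = adj.homEquiv _ _ (lam n g N ≫ (sD n X).map x)) : adjMap n g adj x = y :=
  (sDFF n Y).map_injective ((bijective_comp_tau n g N P).1 ((map_adjMap n g adj x).trans hy.symm))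

theorem adjMap_comp {N : Y.Modules} {P P' : X.Modules}
    (x : (Scheme.Modules.pullback g).obj N ⟶ P) (y : P ⟶ P') :
    adjMap n g adj (x ≫ y) = adjMap n g adj x ≫ (pushforward g).map y := by
  refine eq_adjMap n g adj _ _ ?_
  rw [Functor.map_comp, Functor.map_comp, Category.assoc, tau_naturality,
    ← Category.assoc, ← Category.assoc, map_adjMap]
  simp only [Adjunction.homEquiv_naturality_right, Category.assoc, Functor.map_comp]

theorem bijective_adjMap {N : Y.Modules} (hN : IsIso (lam n g N)) {P : X.Modules} :
    Function.Bijective (adjMap n g adj (N := N) (P := P)) := by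
  refine ⟨fun x x' h => ?_, fun y => ?_⟩
  · have h' := (map_adjMap n g adj x).symm.trans ((congrArg (fun t => (sD n Y).map t ≫ _) h).trans (map_adjMap n g adj x'))
    exact (sDFF n X).map_injective ((cancel_epi (lam n g N)).1 ((adj.homEquiv _ _).injective h'))
  · let z := inv (lam n g N) ≫ (adj.homEquiv _ _).symm ((sD n Y).map y ≫ tau n g P)
    refine ⟨(sDFF n X).preimage z, eq_adjMap n g adj _ _ ?_⟩
    rw [Functor.FullyFaithful.map_preimage, IsIso.hom_inv_id_assoc, Equiv.apply_symm_apply]

/-- On modules the derived unit is the unit, up to an automorphism. -/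
theorem exists_twist {N : Y.Modules} (hN : IsIso (lam n g N)) :
    ∃ a : (Scheme.Modules.pullback g).obj N ⟶ (Scheme.Modules.pullback g).obj N, IsIso a ∧
      ∀ {P : X.Modules} (x : (Scheme.Modules.pullback g).obj N ⟶ P),
        ((pullbackPushforwardAdjunction g).homEquiv N P) (a ≫ x) = adjMap n g adj x := by
  let a := ((pullbackPushforwardAdjunction g).homEquiv N _).symm (adjMap n g adj (𝟙 _))
  have key : ∀ {P : X.Modules} (x : (Scheme.Modules.pullback g).obj N ⟶ P),
      ((pullbackPushforwardAdjunction g).homEquiv N P) (a ≫ x) = adjMap n g adj x := fun {P} x => by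
    rw [Adjunction.homEquiv_naturality_right, Equiv.apply_symm_apply, ← adjMap_comp n g adj,
      Category.id_comp]
  obtain ⟨s, hs⟩ := (bijective_adjMap n g adj hN).2 ((pullbackPushforwardAdjunction g).homEquiv N _ (𝟙 _))
  have h1 : a ≫ s = 𝟙 _ := ((pullbackPushforwardAdjunction g).homEquiv N _).injective ((key s).trans hs)
  refine ⟨a, ⟨s, h1, (bijective_adjMap n g adj hN).1 ?_⟩, key⟩
  rw [← key, ← key, ← Category.assoc, h1, Category.id_comp, Category.comp_id]

end Adjoint

variable {X' S S' : Scheme.{u}} {f : X ⟶ S} {g : S' ⟶ S} {f' : X' ⟶ S'} {g' : X' ⟶ X}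
  (h : IsPullback g' f' f g)

/-- **Base change for an acyclic module.** -/
theorem isIso_theta_module [DCoh.HasLpull g] [DCoh.HasLpull g'] (adjg : DCoh.Lpull g ⊣ RR g)
    (adjg' : DCoh.Lpull g' ⊣ RR g') (M : X.Modules)
    (h1 : IsIso (tau n f M)) (h2 : IsIso (lam n g ((pushforward f).obj M))) (h3 : IsIso (lam n g' M))
    (h4 : IsIso (tau n f' ((Scheme.Modules.pullback g').obj M))) (hbc : IsIso (AffBC.bcMap h M)) :
    IsIso (theta h adjg adjg' ((sD n X).obj M)) := by
  let P := (Scheme.Modules.pullback g').obj M
  let N := (pushforward f).obj M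
  obtain ⟨a', ha', hkey'⟩ := exists_twist n g' adjg' h3
  obtain ⟨a, ha, hkey⟩ := exists_twist n g adjg h2
  let x := inv a ≫ AffBC.bcMap h M ≫ (pushforward f').map a'
  haveI : IsIso x := inferInstance
  haveI : IsIso ((sD n S').map x) := inferInstance
  suffices hθ : (DCoh.Lpull g).map (tau n f M) ≫ theta h adjg adjg' ((sD n X).obj M) ≫
      (RR f').map (lam n g' M) = lam n g N ≫ (sD n S').map x ≫ tau n f' P by
    haveI h8 : IsIso ((DCoh.Lpull g).map (tau n f M)) := inferInstance
    haveI h9 : IsIso ((RR f').map (lam n g' M)) := inferInstance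
    haveI h10 : IsIso (lam n g N ≫ (sD n S').map x ≫ tau n f' P) := inferInstance
    haveI h11 := IsIso.of_isIso_fac_left (f := (DCoh.Lpull g).map (tau n f M)) (h := lam n g N ≫ (sD n S').map x ≫ tau n f' P) hθ
    exact IsIso.of_isIso_comp_right (theta h adjg adjg' ((sD n X).obj M)) ((RR f').map (lam n g' M))
  apply (adjg.homEquiv _ _).injective
  rw [Adjunction.homEquiv_naturality_left, Adjunction.homEquiv_naturality_right, theta, Equiv.apply_symm_apply,
    ← Category.assoc (lam n g N), Adjunction.homEquiv_naturality_right, ← map_adjMap n g adjg x,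
    ← hkey x, IsIso.hom_inv_id_assoc, AffBC.bcMap, ← Adjunction.homEquiv_naturality_right_symm,
    Equiv.apply_symm_apply]
  have e1 : (RR f).map ((RR g').map (lam n g' M)) ≫ (RRSquareIso h).hom.app ((sD n X').obj P) =
      (RRSquareIso h).hom.app ((DCoh.Lpull g').obj ((sD n X).obj M)) ≫ (RR g).map ((RR f').map (lam n g' M)) :=
    (RRSquareIso h).hom.naturality (lam n g' M)
  have e2 : adjg'.unit.app ((sD n X).obj M) ≫ (RR g').map (lam n g' M) =
      (sD n X).map ((pullbackPushforwardAdjunction g').homEquiv M P a') ≫ tau n g' P := by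
    rw [← Category.comp_id a', hkey', map_adjMap n g' adjg', CategoryTheory.Functor.map_id, Category.comp_id]
    exact (adjg'.homEquiv_unit _ _ _).symm
  rw [Category.assoc ((RR f).map _), ← e1, ← Category.assoc ((RR f).map _), ← Functor.map_comp, e2, Functor.map_comp,
    Category.assoc, ← Category.assoc (tau n f M), ← tau_naturality, Category.assoc, tau_square n h P,
    ← Category.assoc ((sD n S).map _), ← Functor.map_comp]
  simp only [Category.assoc]
  refine congrArg (fun t => (sD n S).map t ≫ _) ?_
  have e3 : ((pushforwardComp g' f).hom ≫ (pushforwardCongr h.w).hom ≫ (pushforwardComp f' g).inv).app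
        ((Scheme.Modules.pullback g').obj M) ≫ (pushforward g).map ((pushforward f').map a') =
      (pushforward f).map ((pushforward g').map a') ≫
        ((pushforwardComp g' f).hom ≫ (pushforwardCongr h.w).hom ≫ (pushforwardComp f' g).inv).app P :=
    (((pushforwardComp g' f).hom ≫ (pushforwardCongr h.w).hom ≫ (pushforwardComp f' g).inv).naturality a').symm
  rw [AffBC.bcV, Adjunction.homEquiv_unit, Functor.map_comp]
  simp only [Category.assoc]
  exact congrArg ((pushforward f).map ((pullbackPushforwardAdjunction g').unit.app M) ≫ ·) e3.symm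

/-- Along a flat morphism every module is adapted to pullback. -/
theorem isIso_lam_of_flat (g : X ⟶ Y) [Flat g] [DCoh.HasLpull g] (N : Y.Modules) : IsIso (lam n g N) := by
  haveI := additive_pullback g
  haveI := preservesFiniteLimits_pullback_of_flat g
  let T := Scheme.Modules.pullback g
  let W := HomotopyCategory.quasiIso Y.Modules (ComplexShape.up ℤ)
  haveI : T.mapDerivedCategory.IsLeftDerivedFunctor T.mapDerivedCategoryFactorsh.hom W :=
    Functor.isLeftDerivedFunctor_of_inverts W T.mapDerivedCategory T.mapDerivedCategoryFactorsh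
  let α := (DCoh.pullKh g).totalLeftDerivedCounit DerivedCategory.Qh W
  let e : T.mapDerivedCategory ≅ DCoh.Lpull g :=
    Functor.leftDerivedUnique _ _ T.mapDerivedCategoryFactorsh.hom α W
  have hfac : e.hom.app (DerivedCategory.Qh.obj ((sK n Y).obj N)) ≫ α.app ((sK n Y).obj N) =
      T.mapDerivedCategoryFactorsh.hom.app ((sK n Y).obj N) :=
    (Functor.leftDerivedNatTrans_app T.mapDerivedCategory (DCoh.Lpull g) T.mapDerivedCategoryFactorsh.hom α W
      (𝟙 _) ((sK n Y).obj N)).trans (Category.comp_id _)
  have hα : IsIso (α.app ((sK n Y).obj N)) := by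
    haveI : IsIso (e.hom.app (DerivedCategory.Qh.obj ((sK n Y).obj N)) ≫ α.app ((sK n Y).obj N)) := by
      rw [hfac]; exact inferInstance
    exact IsIso.of_isIso_comp_left (e.hom.app (DerivedCategory.Qh.obj ((sK n Y).obj N))) _
  have h2 : IsIso ((qD X).map ((singleMapHomologicalComplex (Scheme.Modules.pullback g) (ComplexShape.up ℤ) n).app N).hom) :=
    ((qD X).mapIso ((singleMapHomologicalComplex (Scheme.Modules.pullback g) (ComplexShape.up ℤ) n).app N)).isIso_hom
  exact @IsIso.comp_isIso _ _ _ _ _ _ _ hα h2

variable {V : Scheme.{u}}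

/-- Base change holds for the direct image of a structure sheaf of a scheme affine over the base. -/
theorem isIso_theta_pushforward {p : X ⟶ S} {p' : X' ⟶ S'} (h : IsPullback g' p' p g) [DCoh.HasLpull g]
    [DCoh.HasLpull g'] (adjg : DCoh.Lpull g ⊣ RR g) (adjg' : DCoh.Lpull g' ⊣ RR g') [QuasiCompact p]
    [QuasiSeparated p] (j : V ⟶ X) [IsAffineHom j] [Flat j] [IsAffineHom (j ≫ p)]
    (hflat : Flat g ∨ Flat (j ≫ p)) :
    IsIso (theta h adjg adjg' ((sD n X).obj ((pushforward j).obj (Coh.structureModule V)))) := by
  let O := Coh.structureModule V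
  haveI : O.IsQuasicoherent := WeakAss.isQuasicoherent_structureModule
  haveI := QCoh.isQuasicoherent_pushforward j O
  let M := (pushforward j).obj O
  let V' := Limits.pullback j g'
  let gV : V' ⟶ V := Limits.pullback.fst j g'
  let j' : V' ⟶ X' := Limits.pullback.snd j g'
  have h' : IsPullback gV j' j g' := IsPullback.of_hasPullback j g'
  have h'' : IsPullback gV (j' ≫ p') (j ≫ p) g := h'.paste_vert h
  haveI : IsAffineHom j' := MorphismProperty.of_isPullback h' ‹IsAffineHom j›
  haveI : IsAffineHom (j' ≫ p') := MorphismProperty.of_isPullback h'' ‹IsAffineHom (j ≫ p)›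
  haveI : QuasiCompact p' := MorphismProperty.of_isPullback h ‹QuasiCompact p›
  haveI : QuasiSeparated p' := MorphismProperty.of_isPullback h ‹QuasiSeparated p›
  let O' := (Scheme.Modules.pullback gV).obj O
  haveI : O'.IsQuasicoherent := FittSheaf.isQuasicoherent_pullback gV O
  haveI := AffBC.isIso_bcMap h' O
  haveI := AffBC.isIso_bcMap h'' O
  let e' : (pushforward j').obj O' ≅ (Scheme.Modules.pullback g').obj M := (asIso (AffBC.bcMap h' O)).symm
  have h2 : IsIso (lam n g ((pushforward p).obj M)) := by
    rcases hflat with hg | hg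
    · exact isIso_lam_of_flat n g _
    · haveI := hg
      exact isIso_lam n g _ (isFlat_iso ((pushforwardComp j p).app O).symm
        (isFlat_pushforward_affine (j ≫ p) O (Seesaw26.isFlatOver_structure _)))
  refine isIso_theta_module n h adjg adjg' M (isIso_tau_pushforward n p j O) h2
    (isIso_lam n g' M (isFlat_pushforward_affine j O (Seesaw26.isFlatOver_structure _)))
    (isIso_tau_of_iso n p' e' (isIso_tau_pushforward n p' j' O')) ?_
  haveI hc : IsIso ((Scheme.Modules.pullback g).map ((pushforwardComp j p).inv.app O) ≫ AffBC.bcMap h M ≫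
      (pushforward p').map (AffBC.bcMap h' O) ≫ (pushforwardComp j' p').hom.app O') := by
    rw [FunMor20.bcMap_comp h h' h'' O]
    infer_instance
  haveI hd := @IsIso.of_isIso_comp_left _ _ _ _ _ ((Scheme.Modules.pullback g).map ((pushforwardComp j p).inv.app O)) _ inferInstance hc
  exact IsIso.of_isIso_comp_right _ ((pushforward p').map (AffBC.bcMap h' O) ≫ (pushforwardComp j' p').hom.app O')

/-- **Base change for perfect objects**, when one of the morphisms to the base is flat. -/
theorem good_of_isPerfect [DCoh.HasLpull g] [DCoh.HasLpull g'] {p : X ⟶ S} {p' : X' ⟶ S'}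
    (h : IsPullback g' p' p g) (adjg : DCoh.Lpull g ⊣ RR g) (adjg' : DCoh.Lpull g' ⊣ RR g') [S.IsSeparated]
    [IsSeparated p] [QuasiCompact p] [CompactSpace X] (hflat : Flat g ∨ Flat p)
    {E : DCoh.D X} (hE : DCoh.IsPerfect E) : Good h adjg adjg' E := by
  haveI : X.IsSeparated := ⟨by rw [← terminal.comp_from p]; infer_instance⟩
  refine prop_of_isPerfect (thick_good h adjg adjg') (fun A j hj k m => ?_) hE
  haveI : IsAffineHom (j ≫ p) := IsAffineHom.of_comp (j ≫ p) (terminal.from S)
  haveI : IsAffineHom j := IsAffineHom.of_comp j p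
  haveI : IsIso (tau k j (Coh.structureModule (Spec A))) :=
    haveI : (Coh.structureModule (Spec A)).IsQuasicoherent := WeakAss.isQuasicoherent_structureModule
    isIso_tau_affine k j _
  let e : ((RR j).obj ((sD k (Spec A)).obj ((genF (Spec A)).obj ⊤)))⟦m⟧ ≅
      (sD (k - m) X).obj ((pushforward j).obj (Coh.structureModule (Spec A))) :=
    (shiftFunctor _ m).mapIso ((RR j).mapIso ((sD k _).mapIso (genTopIso (Spec A))) ≪≫
      (asIso (tau k j (Coh.structureModule (Spec A)))).symm ≪≫ (sDIso k X).symm.app _) ≪≫
    ((DerivedCategory.singleFunctors X.Modules).shiftIso m (k - m) k (by omega)).app _ ≪≫ (sDIso (k - m) X).app _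
  exact (NatTrans.isIso_app_iff_of_iso (thetaNat h adjg adjg') e).2
    (isIso_theta_pushforward (k - m) h adjg adjg' j (hflat.imp id fun hp => by haveI := hp; infer_instance))

end GrothLib.FMBC15
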