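import Groth.Agent.Lib.FMBC15.Main

/-!
# The Fourier–Mukai functor turns direct images into pullback by the transpose
-/

set_option autoImplicit false
set_option linter.all false
set_option backward.isDefEq.respectTransparency false
set_option maxHeartbeats 2000000

universe u

open CategoryTheory CategoryTheory.Limits AlgebraicGeometry
open MonoidalCategory CartesianMonoidalCategory
open GrothLib.Cube
open scoped MonObj

attribute [local instance] HasDerivedCategory.standard

noncomputable section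

namespace GrothLib.FMBC15

variable {k : Type u} [Field k] {A At B Bt : Over (Spec (CommRingCat.of k))}

/-- The projection square of a morphism times an object. -/
theorem isPullback_whiskerRight (f : A ⟶ B) (Bt : Over (Spec (CommRingCat.of k))) :
    IsPullback (fst A Bt).left (f ▷ Bt).left f.left (fst B Bt).left := by
  have hc : (fst A Bt).left ≫ f.left = (f ▷ Bt).left ≫ pullback.fst B.hom Bt.hom := by
    show _ = (f ▷ Bt).left ≫ (fst B Bt).left
    rw [← Over.comp_left, ← Over.comp_left, whiskerRight_fst]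
  have hs : (f ▷ Bt).left ≫ pullback.snd B.hom Bt.hom = pullback.snd A.hom Bt.hom := by
    show (f ▷ Bt).left ≫ (snd B Bt).left = (snd A Bt).left
    rw [← Over.comp_left, whiskerRight_snd]
  refine IsPullback.of_bot ?_ hc (IsPullback.of_hasPullback B.hom Bt.hom)
  rw [Over.w f, hs]
  exact IsPullback.of_hasPullback A.hom Bt.hom

/-- The projection square of an object times a morphism. -/
theorem isPullback_whiskerLeft (A : Over (Spec (CommRingCat.of k))) (g : Bt ⟶ At) :
    IsPullback (A ◁ g).left (snd A Bt).left (snd A At).left g.left := by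
  refine IsPullback.of_right (h₁₂ := pullback.fst A.hom At.hom) (v₁₃ := A.hom) (h₂₂ := At.hom) ?_ ?_
    (IsPullback.of_hasPullback A.hom At.hom)
  · have hs : (A ◁ g).left ≫ pullback.fst A.hom At.hom = pullback.fst A.hom Bt.hom := by
      show (A ◁ g).left ≫ (fst A At).left = (fst A Bt).left
      rw [← Over.comp_left, whiskerLeft_fst]
    rw [Over.w g, hs]
    exact IsPullback.of_hasPullback A.hom Bt.hom
  · rw [← Over.comp_left, ← Over.comp_left, whiskerLeft_snd]

variable [GrpObj A] [IsProper A.hom] [Smooth A.hom] [GeometricallyConnected A.hom]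
  [GrpObj At] [IsProper At.hom] [Smooth At.hom] [GeometricallyConnected At.hom]
  [GrpObj B] [IsProper B.hom] [Smooth B.hom] [GeometricallyConnected B.hom]
  [GrpObj Bt] [IsProper Bt.hom] [Smooth Bt.hom] [GeometricallyConnected Bt.hom]
  {φA : ∀ T : Over (Spec (CommRingCat.of k)), PicF.Cl (PicF.XT A.hom T) → (T ⟶ At)}
  {φB : ∀ T : Over (Spec (CommRingCat.of k)), PicF.Cl (PicF.XT B.hom T) → (T ⟶ Bt)}
  {PA : (A ⊗ At).left.Modules} {PB : (B ⊗ Bt).left.Modules}

/-- The two kernels on `A × Bᵗ` agree. -/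
theorem nonempty_kernel_iso (hφA : AbDual.IsDualAV Scheme.fppfPrecoverage A At φA) (hPA : PicF.IsInvertible PA)
    (hPAξ : AbDual.IsPoincareCl A At φA (PicF.cl PA)) (hPB : PicF.IsInvertible PB)
    (hPBξ : AbDual.IsPoincareCl B Bt φB (PicF.cl PB)) (f : A ⟶ B) [IsMonHom f] (ft : Bt ⟶ At)
    (hft : AbDual.IsTranspose f φA φB ft) :
    Nonempty ((Scheme.Modules.pullback (A ◁ ft).left).obj PA ≅ (Scheme.Modules.pullback (f ▷ Bt).left).obj PB) := by
  haveI := Dual.geometricallyIntegral_of_abScheme A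
  haveI := Dual.geometricallyIntegral_of_abScheme B
  have hcA := hasCls_clsMod (X := (A ⊗ At).left) hPA
  have hcB := hasCls_clsMod (X := (B ⊗ Bt).left) hPB
  have hx := PolSym15.isUniv_of_isPoincareCl hcA hPAξ
  have hy := PolSym15.isUniv_of_isPoincareCl hcB hPBξ
  have h1 : pull (A ◁ ft).left (clsMod hPA) = pull (f ▷ Bt).left (clsMod hPB) := by
    refine Dual.eq_of_dphi hφA (hx.pz.pullT ft) (hy.pz.pullHom f) ?_ ?_
    · rw [PolSym15.rig_pull hx, CubeRel26.pull_pull_over, lift_whiskerRight, MonObj.one_comp]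
      exact (PolSym15.pair_one_left hy (𝟙 Bt)).symm
    · rw [PolSym15.dphi_pull_whisker hx hφA, Dual.dphi_transpose hft hy.pz, hy.dphi, Category.id_comp]
  exact (hcA.pullback _).iso (hcB.pullback _) h1

theorem nonempty_pushforward_transpose (hφA : AbDual.IsDualAV Scheme.fppfPrecoverage A At φA)
    (hPA : PicF.IsInvertible PA) (hPAξ : AbDual.IsPoincareCl A At φA (PicF.cl PA)) (hPB : PicF.IsInvertible PB)
    (hPBξ : AbDual.IsPoincareCl B Bt φB (PicF.cl PB)) (f : A ⟶ B) [IsMonHom f] (ft : Bt ⟶ At)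
    (hft : AbDual.IsTranspose f φA φB ft)
    [DCoh.HasLpull (fst A At).left] [DCoh.HasLTensorMod PA] [DCoh.HasRpush (snd A At).left]
    [DCoh.HasLpull (fst B Bt).left] [DCoh.HasLTensorMod PB] [DCoh.HasRpush (snd B Bt).left]
    [DCoh.HasRpush f.left] [DCoh.HasLpull ft.left] :
    Nonempty (ObjectProperty.ι (DCoh.IsQCohD (X := A.left)) ⋙ DCoh.Rpush f.left ⋙
        (DCoh.Lpull (fst B Bt).left ⋙ DCoh.LTensorMod PB ⋙ DCoh.Rpush (snd B Bt).left) ≅
      ObjectProperty.ι (DCoh.IsQCohD (X := A.left)) ⋙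
        (DCoh.Lpull (fst A At).left ⋙ DCoh.LTensorMod PA ⋙ DCoh.Rpush (snd A At).left) ⋙ DCoh.Lpull ft.left) := by
  obtain ⟨e⟩ := nonempty_kernel_iso hφA hPA hPAξ hPB hPBξ f ft hft
  let p := (fst A Bt).left
  let q := (snd A Bt).left
  let h := (f ▷ Bt).left
  let j := (A ◁ ft).left
  let pA := (fst A At).left
  let pB := (fst B Bt).left
  let qA := (snd A At).left
  let qB := (snd B Bt).left
  let Q := (Scheme.Modules.pullback h).obj PB
  have hQ : PicF.IsInvertible Q := ((hasCls_clsMod (X := (B ⊗ Bt).left) hPB).pullback _).1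
  haveI : Flat pB := by show Flat (pullback.fst B.hom Bt.hom); infer_instance
  haveI : Flat qA := by show Flat (pullback.snd A.hom At.hom); infer_instance
  haveI : IsSeparated qA := by show IsSeparated (pullback.snd A.hom At.hom); infer_instance
  haveI : QuasiCompact qA := by show QuasiCompact (pullback.snd A.hom At.hom); infer_instance
  haveI : At.left.IsSeparated := ⟨by rw [← terminal.comp_from At.hom]; infer_instance⟩
  haveI : B.left.IsSeparated := ⟨by rw [← terminal.comp_from B.hom]; infer_instance⟩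
  haveI : CompactSpace At.left := QuasiCompact.compactSpace_of_compactSpace At.hom
  haveI : CompactSpace A.left := QuasiCompact.compactSpace_of_compactSpace A.hom
  haveI : CompactSpace (A ⊗ At).left := QuasiCompact.compactSpace_of_compactSpace qA
  haveI : IsProper f.left := by
    haveI : IsProper (f.left ≫ B.hom) := by rw [Over.w]; infer_instance
    exact IsProper.of_comp f.left B.hom
  haveI : DCoh.HasRpush h := KInj.hasRightDerivedFunctor _
  haveI : DCoh.HasRpush q := KInj.hasRightDerivedFunctor _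
  haveI : DCoh.HasRpush (h ≫ qB) := KInj.hasRightDerivedFunctor _
  haveI : DCoh.HasRpush pB := KInj.hasRightDerivedFunctor _
  haveI : DCoh.HasRpush p := KInj.hasRightDerivedFunctor _
  haveI : DCoh.HasLpull p := OX.hasLpull p
  haveI : DCoh.HasLpull (j ≫ pA) := OX.hasLpull _
  haveI : DCoh.HasLTensorMod Q := OX.hasLTensorMod Q
  obtain ⟨b1⟩ := nonempty_bc (isPullback_whiskerRight f Bt) (Or.inl ‹Flat pB›)
  obtain ⟨b2⟩ := nonempty_bc_kernel (isPullback_whiskerLeft A ft) pA (Or.inr ‹Flat qA›) hPA e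
  obtain ⟨_, _, _⟩ := FMTrans15.exact_tF' hPB
  obtain ⟨_, _, _⟩ := FMTrans15.exact_tF' hQ
  obtain ⟨t1⟩ := FMTrans15.nonempty_ltensor_iso PB
  obtain ⟨t2⟩ := FMTrans15.nonempty_ltensor_iso Q
  obtain ⟨pf⟩ := nonempty_rpush_twist h PB hPB
  obtain ⟨c⟩ := nonempty_rpush_comp h qB
  have hjp : j ≫ pA = p := by
    show (A ◁ ft).left ≫ (fst A At).left = (fst A Bt).left
    rw [← Over.comp_left, whiskerLeft_fst]
  have hhq : h ≫ qB = q := by
    show (f ▷ Bt).left ≫ (snd B Bt).left = (snd A Bt).left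
    rw [← Over.comp_left, whiskerRight_snd]
  let cq : DCoh.Rpush (h ≫ qB) ≅ DCoh.Rpush q :=
    OX.rpushIsoRres _ ≪≫ OX.RRCongr hhq ≪≫ (OX.rpushIsoRres _).symm
  let s1 : DCoh.Rpush h ⋙ DCoh.LTensorMod PB ⋙ DCoh.Rpush qB ≅ DCoh.LTensorMod Q ⋙ DCoh.Rpush q :=
    (Functor.associator _ _ _).symm ≪≫ Functor.isoWhiskerRight (Functor.isoWhiskerLeft _ t1 ≪≫ pf.symm ≪≫
      Functor.isoWhiskerRight t2.symm _) _ ≪≫ Functor.associator _ _ _ ≪≫ Functor.isoWhiskerLeft _ (c ≪≫ cq)
  exact ⟨Functor.isoWhiskerLeft _ (Functor.associator _ _ _).symm ≪≫ (Functor.associator _ _ _).symm ≪≫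
    Functor.isoWhiskerRight b1 _ ≪≫ Functor.associator _ _ _ ≪≫
    Functor.isoWhiskerLeft _ (Functor.associator _ _ _ ≪≫ Functor.isoWhiskerLeft _ s1 ≪≫
      Functor.isoWhiskerRight (lpullCongr hjp).symm _ ≪≫ (Functor.associator _ _ _).symm) ≪≫ b2.symm⟩

end GrothLib.FMBC15
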