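import Groth.Agent.Lib.FMTrans15.Basic
import Groth.Agent.Lib.FMBC15.QCoh
import Groth.Agent.Lib.Euler.Coh
import Groth.Agent.Lib.InvExt.FiniteFibre
import Groth.Agent.Lib.VA.Tensor
import Groth.Agent.Lib.PolSym15.Basic

/-!
# Derived pullback and direct image commute with twists
-/

set_option autoImplicit false
set_option linter.all false
set_option backward.isDefEq.respectTransparency false
set_option maxHeartbeats 1000000

universe u

open CategoryTheory CategoryTheory.Limits AlgebraicGeometry HomologicalComplex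
open GrothLib.Cube

attribute [local instance] HasDerivedCategory.standard

noncomputable section

namespace GrothLib.FMBC15

open GrothLib.OX

variable {X Y Z : Scheme.{u}}

theorem isKFlat_twist {N : X.Modules} (hN : PicF.IsInvertible N) {K : CochainComplex X.Modules ℤ}
    (hK : DCoh.IsKFlat K) :
    DCoh.IsKFlat (((Euler.tF N).mapHomologicalComplex (ComplexShape.up ℤ)).obj K) :=
  isKFlat_of_iso (singleIso K N).symm
    (isKFlat_tensor hK (isKFlat_single N (flat_of_isFinLocFree (Euler.isFinLocFree_of_isInvertible hN)) 0))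

/-- Derived pullback commutes with twists. -/
theorem nonempty_lpull_twist (g : X ⟶ Y) [DCoh.HasLpull g] (N : Y.Modules) (hN : PicF.IsInvertible N)
    [PreservesFiniteLimits (Euler.tF N)] [PreservesFiniteColimits (Euler.tF N)]
    [PreservesFiniteLimits (Euler.tF ((Scheme.Modules.pullback g).obj N))]
    [PreservesFiniteColimits (Euler.tF ((Scheme.Modules.pullback g).obj N))] :
    Nonempty ((Euler.tF N).mapDerivedCategory ⋙ DCoh.Lpull g ≅
      DCoh.Lpull g ⋙ (Euler.tF ((Scheme.Modules.pullback g).obj N)).mapDerivedCategory) := by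
  haveI := additive_pullback g
  let T := Euler.tF N
  let T' := Euler.tF ((Scheme.Modules.pullback g).obj N)
  let P := Scheme.Modules.pullback g
  let W := HomotopyCategory.quasiIso Y.Modules (ComplexShape.up ℤ)
  let G : HomotopyCategory Y.Modules (ComplexShape.up ℤ) ⥤ DCoh.D X := DCoh.pullKh g ⋙ T'.mapDerivedCategory
  have hres := (pullKh_resolvable g).postcomp T'.mapDerivedCategory
  let α := (DCoh.pullKh g).totalLeftDerivedCounit DerivedCategory.Qh W
  let β₁ : DerivedCategory.Qh ⋙ DCoh.Lpull g ⋙ T'.mapDerivedCategory ⟶ G :=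
    (Functor.associator _ _ _).inv ≫ Functor.whiskerRight α T'.mapDerivedCategory
  let κ : T.mapHomotopyCategory (ComplexShape.up ℤ) ⋙ P.mapHomotopyCategory (ComplexShape.up ℤ) ≅
      P.mapHomotopyCategory (ComplexShape.up ℤ) ⋙ T'.mapHomotopyCategory (ComplexShape.up ℤ) :=
    Functor.mapHomotopyCategoryCompIso (FMTrans15.tFPull g N) (ComplexShape.up ℤ) ≪≫
      (Functor.mapHomotopyCategoryCompIso (Iso.refl (P ⋙ T')) (ComplexShape.up ℤ)).symm
  let δ : T.mapHomotopyCategory (ComplexShape.up ℤ) ⋙ DCoh.pullKh g ≅ G :=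
    (Functor.associator _ _ _).symm ≪≫ Functor.isoWhiskerRight κ _ ≪≫ Functor.associator _ _ _ ≪≫
      Functor.isoWhiskerLeft _ T'.mapDerivedCategoryFactorsh.symm ≪≫ (Functor.associator _ _ _).symm
  let β₂ : DerivedCategory.Qh ⋙ T.mapDerivedCategory ⋙ DCoh.Lpull g ⟶ G :=
    (Functor.associator _ _ _).inv ≫ Functor.whiskerRight T.mapDerivedCategoryFactorsh.hom (DCoh.Lpull g) ≫
      (Functor.associator _ _ _).hom ≫ Functor.whiskerLeft _ α ≫ δ.hom
  haveI h1 : (DCoh.Lpull g ⋙ T'.mapDerivedCategory).IsLeftDerivedFunctor β₁ W :=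
    hres.isLeftDerivedFunctor _ _ fun Q hQ => by
      have := (pullKh_resolvable g).isIso_app_of_isLeftDerivedFunctor _ α hQ
      simp only [β₁, NatTrans.comp_app, Functor.associator_inv_app, Functor.whiskerRight_app, Category.id_comp]
      infer_instance
  haveI h2 : (T.mapDerivedCategory ⋙ DCoh.Lpull g).IsLeftDerivedFunctor β₂ W :=
    hres.isLeftDerivedFunctor _ _ fun Q hQ => by
      have hT : kFlatP ((T.mapHomotopyCategory (ComplexShape.up ℤ)).obj Q) := isKFlat_twist hN hQ
      have := (pullKh_resolvable g).isIso_app_of_isLeftDerivedFunctor _ α hT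
      simp only [β₂, NatTrans.comp_app, Functor.associator_inv_app, Functor.associator_hom_app,
        Functor.whiskerRight_app, Functor.whiskerLeft_app, Category.id_comp]
      infer_instance
  exact ⟨Functor.leftDerivedUnique _ _ β₂ β₁ W⟩

section

variable {A : Type*} [Category A] [Abelian A] [HasDerivedCategory A]
  {B : Type*} [Category B] [Abelian B] [HasDerivedCategory B]

/-- A right adjoint commutes with autoequivalences intertwined by its left adjoint. -/
theorem nonempty_commute {L : DerivedCategory A ⥤ DerivedCategory B}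
    {R : DerivedCategory B ⥤ DerivedCategory A} (adj : L ⊣ R)
    {U U' : B ⥤ B} {V V' : A ⥤ A} [U.Additive] [U'.Additive] [V.Additive] [V'.Additive]
    [PreservesFiniteLimits U] [PreservesFiniteColimits U] [PreservesFiniteLimits U'] [PreservesFiniteColimits U']
    [PreservesFiniteLimits V] [PreservesFiniteColimits V] [PreservesFiniteLimits V'] [PreservesFiniteColimits V']
    (eU : U ⋙ U' ≅ 𝟭 B) (eU' : U' ⋙ U ≅ 𝟭 B) (eV : V ⋙ V' ≅ 𝟭 A) (eV' : V' ⋙ V ≅ 𝟭 A)
    (c : L ⋙ U'.mapDerivedCategory ≅ V'.mapDerivedCategory ⋙ L) :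
    Nonempty (U.mapDerivedCategory ⋙ R ≅ R ⋙ V.mapDerivedCategory) := by
  let EU : DerivedCategory B ≌ DerivedCategory B := CategoryTheory.Equivalence.mk U'.mapDerivedCategory
    U.mapDerivedCategory (DerCat.mapDerivedCompIso U' U (𝟭 B) eU' ≪≫ OX.mapDerivedIdIso).symm
    (DerCat.mapDerivedCompIso U U' (𝟭 B) eU ≪≫ OX.mapDerivedIdIso)
  let EV : DerivedCategory A ≌ DerivedCategory A := CategoryTheory.Equivalence.mk V'.mapDerivedCategory
    V.mapDerivedCategory (DerCat.mapDerivedCompIso V' V (𝟭 A) eV' ≪≫ OX.mapDerivedIdIso).symm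
    (DerCat.mapDerivedCompIso V V' (𝟭 A) eV ≪≫ OX.mapDerivedIdIso)
  let a1 : L ⋙ U'.mapDerivedCategory ⊣ U.mapDerivedCategory ⋙ R := adj.comp EU.toAdjunction
  let a2 : V'.mapDerivedCategory ⋙ L ⊣ R ⋙ V.mapDerivedCategory := EV.toAdjunction.comp adj
  exact ⟨a1.rightAdjointUniq (a2.ofNatIsoLeft c.symm)⟩

end

/-- An inverse invertible module, with the inverse twists. -/
theorem exists_inverse {N : X.Modules} (hN : PicF.IsInvertible N) :
    ∃ N' : X.Modules, PicF.IsInvertible N' ∧
      Nonempty (((DCoh.tensorBi (X := X)).obj N).obj N' ≅ Coh.structureModule X) ∧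
      Nonempty (((DCoh.tensorBi (X := X)).obj N').obj N ≅ Coh.structureModule X) := by
  have h := Dual.hasCls_rep ((clsMod hN)⁻¹)
  exact ⟨_, h.1, ((hasCls_clsMod hN).tensor h).iso (hasCls_structureModule X) (mul_inv_cancel _),
    (h.tensor (hasCls_clsMod hN)).iso (hasCls_structureModule X) (inv_mul_cancel _)⟩

/-- **Projection formula for an invertible module.** -/
theorem nonempty_rpush_twist (g : X ⟶ Y) [DCoh.HasRpush g] (N : Y.Modules) (hN : PicF.IsInvertible N)
    [PreservesFiniteLimits (Euler.tF N)] [PreservesFiniteColimits (Euler.tF N)]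
    [PreservesFiniteLimits (Euler.tF ((Scheme.Modules.pullback g).obj N))]
    [PreservesFiniteColimits (Euler.tF ((Scheme.Modules.pullback g).obj N))] :
    Nonempty ((Euler.tF ((Scheme.Modules.pullback g).obj N)).mapDerivedCategory ⋙ DCoh.Rpush g ≅
      DCoh.Rpush g ⋙ (Euler.tF N).mapDerivedCategory) := by
  haveI : DCoh.HasLpull g := OX.hasLpull g
  obtain ⟨N', hN', ⟨n1⟩, ⟨n2⟩⟩ := exists_inverse hN
  let qN := (Scheme.Modules.pullback g).obj N
  let qN' := (Scheme.Modules.pullback g).obj N'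
  have hqN' : PicF.IsInvertible qN' := ((hasCls_clsMod hN').pullback _).1
  let u := Classical.choice (((hasCls_structureModule Y).pullback g).iso (hasCls_structureModule X) (map_one _))
  let r1 : ((DCoh.tensorBi (X := X)).obj qN).obj qN' ≅ Coh.structureModule X :=
    (OX.pullTensorIso g N N').symm ≪≫ (Scheme.Modules.pullback g).mapIso n1 ≪≫ u
  let r2 : ((DCoh.tensorBi (X := X)).obj qN').obj qN ≅ Coh.structureModule X :=
    (OX.pullTensorIso g N' N).symm ≪≫ (Scheme.Modules.pullback g).mapIso n2 ≪≫ u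
  obtain ⟨_, _, _⟩ := FMTrans15.exact_tF' hN'
  obtain ⟨_, _, _⟩ := FMTrans15.exact_tF' hqN'
  obtain ⟨adj⟩ := nonempty_lpullAdj g
  obtain ⟨c⟩ := nonempty_lpull_twist g N' hN'
  exact nonempty_commute adj (FMTrans15.tFComp r1 ≪≫ FMTrans15.tFId) (FMTrans15.tFComp r2 ≪≫ FMTrans15.tFId)
    (FMTrans15.tFComp n1 ≪≫ FMTrans15.tFId) (FMTrans15.tFComp n2 ≪≫ FMTrans15.tFId) c.symm

/-- Twists preserve quasi-coherence of cohomology. -/
theorem isQCohD_twist {N : X.Modules} (hN : PicF.IsInvertible N) [PreservesFiniteLimits (Euler.tF N)]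
    [PreservesFiniteColimits (Euler.tF N)] {E : DCoh.D X} (hE : DCoh.IsQCohD E) :
    DCoh.IsQCohD ((Euler.tF N).mapDerivedCategory.obj E) := fun i => by
  haveI := OX.hasLTensorMod N
  obtain ⟨e⟩ := FMTrans15.nonempty_ltensor_iso N
  obtain ⟨w⟩ := FinSupp15.nonempty_HD_twist hN E i
  exact OX.isQCoh_of_iso ((DerivedCategory.homologyFunctor X.Modules i).mapIso (e.symm.app E) ≪≫ w).symm
    (VA.isQCoh_tensor (hE i) (InvExt.isQuasicoherent_of_isInvertible hN))

/-- Derived direct images compose. -/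
theorem nonempty_rpush_comp (f : X ⟶ Y) (g : Y ⟶ Z) [DCoh.HasRpush f] [DCoh.HasRpush g] [DCoh.HasRpush (f ≫ g)] :
    Nonempty (DCoh.Rpush f ⋙ DCoh.Rpush g ≅ DCoh.Rpush (f ≫ g)) :=
  ⟨Functor.isoWhiskerRight (rpushIsoRres f) _ ≪≫ Functor.isoWhiskerLeft _ (rpushIsoRres g) ≪≫ RRCompIso f g ≪≫
    (rpushIsoRres (f ≫ g)).symm⟩

/-- Derived pullback along equal morphisms. -/
def lpullCongr {f g : X ⟶ Y} (h : f = g) [DCoh.HasLpull f] [DCoh.HasLpull g] : DCoh.Lpull f ≅ DCoh.Lpull g :=
  eqToIso (by subst h; rfl)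

/-- Derived pullback along the identity. -/
theorem nonempty_lpull_id (X : Scheme.{u}) [DCoh.HasLpull (𝟙 X)] : Nonempty (DCoh.Lpull (𝟙 X) ≅ 𝟭 (DCoh.D X)) := by
  haveI := additive_pullback (𝟙 X)
  haveI := preservesFiniteLimits_pullback_of_flat (𝟙 X)
  obtain ⟨l⟩ := DualRing.nonempty_lpull_flat (𝟙 X)
  exact ⟨l ≪≫ FMTrans15.mapDerivedNatIso (Scheme.Modules.pullbackId X) ≪≫ OX.mapDerivedIdIso⟩

end GrothLib.FMBC15
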